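import Groth.Agent.EtNilUnitLib.Mods
import Groth.Agent.MuConstLib.Main
import Mathlib.AlgebraicGeometry.Noetherian

/-!
# Unipotent units have no higher Čech cohomology on affine objects
-/

set_option autoImplicit false
set_option linter.unusedSectionVars false
set_option linter.style.haveILetI false
set_option backward.isDefEq.respectTransparency false
set_option backward.isDefEq.respectTransparency.types false
set_option maxHeartbeats 800000
set_option synthInstance.maxHeartbeats 100000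

universe u

open CategoryTheory CategoryTheory.Limits AlgebraicGeometry Opposite
open Groth.Agent Groth.Agent.EtShLib Groth.Agent.EtShLib.GaAux

noncomputable section

namespace EtNilUnitLib

variable {X : Scheme.{u}}

open MuConstLib in
/-- `t ≡ 1 + b` modulo the next power of the nilradical. -/
def Approx (j : ℕ) {W : X.Etale} (t : ToType ((EtCoh.Gm X).obj.obj (op W))) (b : Γ(W.left, ⊤)) : Prop :=
  b ∈ nilP W j ∧ gmVal X t - 1 - b ∈ nilP W (j + 1)

open MuConstLib

theorem gmVal_add' {W : X.Etale} (t t' : ToType ((EtCoh.Gm X).obj.obj (op W))) :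
    gmVal X (t + t') = gmVal X t * gmVal X t' := rfl

theorem gmVal_zero' {W : X.Etale} : gmVal X (0 : ToType ((EtCoh.Gm X).obj.obj (op W))) = 1 := rfl

section

variable {j : ℕ} {W : X.Etale}

theorem approx_zero : Approx j (0 : ToType ((EtCoh.Gm X).obj.obj (op W))) 0 :=
  ⟨zero_mem _, by rw [gmVal_zero', sub_self, sub_zero]; exact zero_mem _⟩

theorem mul_mem_next (hj : 1 ≤ j) {a b : Γ(W.left, ⊤)} (ha : a ∈ nilP W j) (hb : b ∈ nilP W j) :
    a * b ∈ nilP W (j + 1) := by
  refine Ideal.pow_le_pow_right (by omega : j + 1 ≤ j + j) ?_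
  rw [pow_add]
  exact Ideal.mul_mem_mul ha hb

theorem mem_of_approx {t : ToType ((EtCoh.Gm X).obj.obj (op W))} {b : Γ(W.left, ⊤)} (h : Approx j t b) :
    gmVal X t - 1 ∈ nilP W j := by
  have h1 := (nilP W j).add_mem (Ideal.pow_le_pow_right (Nat.le_succ j) h.2) h.1
  rwa [sub_add_cancel] at h1

theorem approx_add (hj : 1 ≤ j) {t t' : ToType ((EtCoh.Gm X).obj.obj (op W))} {b b' : Γ(W.left, ⊤)}
    (h : Approx j t b) (h' : Approx j t' b') : Approx j (t + t') (b + b') := by
  refine ⟨add_mem h.1 h'.1, ?_⟩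
  rw [gmVal_add', show gmVal X t * gmVal X t' - 1 - (b + b') =
    (gmVal X t - 1 - b) + (gmVal X t' - 1 - b') + (gmVal X t - 1) * (gmVal X t' - 1) by ring]
  exact add_mem (add_mem h.2 h'.2) (mul_mem_next hj (mem_of_approx h) (mem_of_approx h'))

theorem approx_neg (hj : 1 ≤ j) {t : ToType ((EtCoh.Gm X).obj.obj (op W))} {b : Γ(W.left, ⊤)}
    (h : Approx j t b) : Approx j (-t) (-b) := by
  refine ⟨neg_mem h.1, ?_⟩
  have hv : gmVal X t * gmVal X (-t) = 1 := by rw [← gmVal_add', add_neg_cancel, gmVal_zero']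
  have hv1 : gmVal X (-t) - 1 ∈ nilP W j := by
    rw [show gmVal X (-t) - 1 = -(gmVal X (-t) * (gmVal X t - 1)) by linear_combination hv]
    exact neg_mem (Ideal.mul_mem_left _ _ (mem_of_approx h))
  rw [show gmVal X (-t) - 1 - -b = -((gmVal X (-t) - 1) * (gmVal X t - 1)) - (gmVal X t - 1 - b) by
    linear_combination hv]
  exact sub_mem (neg_mem (mul_mem_next hj hv1 (mem_of_approx h))) h.2

theorem approx_sign (hj : 1 ≤ j) (i : ℕ) {t : ToType ((EtCoh.Gm X).obj.obj (op W))} {b : Γ(W.left, ⊤)}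
    (h : Approx j t b) : Approx j (((-1 : ℤ) ^ i) • t) (((-1 : ℤ) ^ i) • b) := by
  rcases neg_one_pow_eq_or ℤ i with hi | hi <;> rw [hi]
  · rwa [one_smul, one_smul]
  · rw [neg_smul, neg_smul, one_smul, one_smul]; exact approx_neg hj h

theorem approx_sum (hj : 1 ≤ j) {ι : Type*} (s : Finset ι) {t : ι → ToType ((EtCoh.Gm X).obj.obj (op W))}
    {b : ι → Γ(W.left, ⊤)} (h : ∀ i, Approx j (t i) (b i)) : Approx j (∑ i ∈ s, t i) (∑ i ∈ s, b i) := by
  classical
  induction s using Finset.induction_on with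
  | empty => exact approx_zero
  | insert a s ha ih => rw [Finset.sum_insert ha, Finset.sum_insert ha]; exact approx_add hj (h a) ih

theorem approx_map {V : X.Etale} (g : V ⟶ W) {t : ToType ((EtCoh.Gm X).obj.obj (op W))} {b : Γ(W.left, ⊤)}
    (h : Approx j t b) : Approx j ((EtCoh.Gm X).obj.map g.op t) (res g b) := by
  refine ⟨res_mem_nilP g h.1, ?_⟩
  rw [gmVal_map, show g.left.appTop.hom (gmVal X t) - 1 - res g b = res g (gmVal X t - 1 - b) by
    rw [map_sub, map_sub, map_one]]
  exact res_mem_nilP g h.2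

end

variable {W' W : X.Etale} (π : W' ⟶ W)

theorem approx_cechD {j : ℕ} (hj : 1 ≤ j) (m : ℕ) {t : ToType ((EtCoh.Gm X).obj.obj (op (obj π m)))}
    {b : Γ((obj π m).left, ⊤)} (h : Approx j t b) :
    Approx j (EpsLib.cechD (EpsLib.nerveOf π) (EtCoh.Gm X).obj m t) (d π m b) := by
  rw [EpsLib.cechD_apply, d_apply]
  exact approx_sum hj _ fun i => approx_sign hj _ (approx_map _ h)

theorem dM_val (j m : ℕ) (b : (nilMods X j).A (obj π m)) :
    (show ↥(nilP (obj π (m + 1)) j) from (nilMods X j).dM π m b).1 = d π m b.1 := by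
  rw [EtZarLib.Mods.dM_apply, d_apply]
  refine (map_sum (nilP (obj π (m + 1)) j).subtype _ _).trans (Finset.sum_congr rfl fun i _ => ?_)
  rw [map_zsmul]
  rfl

theorem d_d (m : ℕ) (x : Γ((obj π m).left, ⊤)) : d π (m + 1) (d π m x) = 0 := by
  have h := congrArg ULift.down (EpsLib.cechD_cechD (EpsLib.nerveOf π) (EtCoh.Ga X).obj m (ULift.up x))
  rw [cechD_up, cechD_up] at h
  exact h

theorem exists_nil_primitive [Surjective π.left] [IsAffine W'.left] [IsAffine W.left] (j m : ℕ)
    {x : Γ((obj π (m + 1)).left, ⊤)} (hx : x ∈ nilP (obj π (m + 1)) j) (h : d π (m + 1) x = 0) :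
    ∃ e ∈ nilP (obj π m) j, d π m e = x := by
  obtain ⟨y, hy⟩ := (nilMods X j).dM_exact π m (fun y => Subtype.ext ((dM_val π j (m + 1) _).trans
    ((congrArg (d π (m + 1)) (dM_val π j m y)).trans (d_d π m _)))) ⟨x, hx⟩
    (Subtype.ext ((dM_val π j (m + 1) _).trans h))
  exact ⟨y.1, y.2, (dM_val π j m y).symm.trans (congrArg Subtype.val hy)⟩

/-- A sheaf of unipotent units is acyclic on affine objects. -/
theorem cechAcyclicA_of_nilUnits [IsLocallyNoetherian X] {G : EtCoh.Ab X} (ι : G ⟶ EtCoh.Gm X)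
    (hinj : ∀ W : X.Etale, Function.Injective (ι.hom.app (op W)))
    (hmem : ∀ W : X.Etale, IsAffine W.left → ∀ t : ToType ((EtCoh.Gm X).obj.obj (op W)),
      (∃ s, ι.hom.app (op W) s = t) ↔ gmVal X t - 1 ∈ nilradical Γ(W.left, ⊤)) : CechAcyclicA G := by
  intro W' W π h1 h2 h3 n x hx
  haveI := h1; haveI := h2; haveI := h3
  have haff : ∀ m, IsAffine (obj π m).left := fun m => pow_isAffine π m
  haveI := haff
  let a := fun m => ι.hom.app (op (obj π m))
  suffices h : ∀ j : ℕ, ∃ y : G.obj.obj (op (obj π n)),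
      gmVal X (a (n + 1) (x - EpsLib.cechD (EpsLib.nerveOf π) G.obj n y)) - 1 ∈ nilP (obj π (n + 1)) (j + 1) by
    let f : (obj π (n + 1)).left ⟶ X := (obj π (n + 1)).hom
    haveI : AlgebraicGeometry.Etale f := (obj π (n + 1)).prop
    haveI : IsLocallyNoetherian (obj π (n + 1)).left := LocallyOfFiniteType.isLocallyNoetherian f
    haveI : IsNoetherianRing Γ((obj π (n + 1)).left, ⊤) :=
      IsLocallyNoetherian.component_noetherian ⟨⊤, isAffineOpen_top _⟩
    obtain ⟨J, hJ⟩ := IsNoetherianRing.isNilpotent_nilradical Γ((obj π (n + 1)).left, ⊤)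
    obtain ⟨y, hy⟩ := h J
    refine ⟨y, (sub_eq_zero.1 ?_).symm⟩
    refine hinj _ (gmVal_injective X ?_)
    rw [map_zero, gmVal_zero']
    refine sub_eq_zero.1 ((Ideal.mem_bot).1 ?_)
    rw [← Ideal.zero_eq_bot, ← hJ]
    exact Ideal.pow_le_pow_right (Nat.le_succ J) hy
  intro j
  induction j with
  | zero =>
    refine ⟨0, ?_⟩
    rw [map_zero, sub_zero, zero_add]
    show _ ∈ nilradical _ ^ 1
    rw [pow_one]
    exact (hmem _ (haff _) _).1 ⟨x, rfl⟩
  | succ j ih =>
    obtain ⟨y, hy⟩ := ih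
    set z := x - EpsLib.cechD (EpsLib.nerveOf π) G.obj n y with hz
    have hdz : EpsLib.cechD (EpsLib.nerveOf π) G.obj (n + 1) z = 0 := by
      rw [hz, map_sub, hx, EpsLib.cechD_cechD, sub_zero]
    set b := gmVal X (a (n + 1) z) - 1 with hb
    have hA : Approx (j + 1) (a (n + 1) z) b := ⟨hy, by rw [hb, sub_self]; exact zero_mem _⟩
    have hdb : d π (n + 1) b ∈ nilP (obj π (n + 2)) (j + 2) := by
      have h0 := (approx_cechD π (Nat.le_add_left 1 j) (n + 1) hA).2
      rw [← EpsLib.cechD_natural _ ι.hom, hdz, map_zero, gmVal_zero', sub_self, zero_sub] at h0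
      exact neg_mem_iff.1 h0
    obtain ⟨e', he', hde'⟩ := exists_nil_primitive π (j + 2) (n + 1) hdb (d_d π _ _)
    obtain ⟨e, he, hde⟩ := exists_nil_primitive π (j + 1) n (x := b - e')
      (sub_mem hy (Ideal.pow_le_pow_right (Nat.le_succ _) he')) (by rw [map_sub, hde', sub_self])
    have hu : IsUnit (1 + e) := by
      refine IsNilpotent.isUnit_one_add (mem_nilradical.1 ?_)
      exact Ideal.pow_le_self (Nat.succ_ne_zero j) he
    let t : ToType ((EtCoh.Gm X).obj.obj (op (obj π n))) := ULift.up (Additive.ofMul hu.unit)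
    have ht : gmVal X t = 1 + e := rfl
    obtain ⟨w, hw⟩ := (hmem _ (haff n) t).2 (by
      rw [ht, add_sub_cancel_left]; exact Ideal.pow_le_self (Nat.succ_ne_zero j) he)
    have hAt : Approx (j + 1) t e := ⟨he, by rw [ht, add_sub_cancel_left, sub_self]; exact zero_mem _⟩
    refine ⟨y + w, ?_⟩
    have hfin := approx_add (Nat.le_add_left 1 j) hA (approx_neg (Nat.le_add_left 1 j) (approx_cechD π (Nat.le_add_left 1 j) n hAt))
    have hval : a (n + 1) (x - EpsLib.cechD (EpsLib.nerveOf π) G.obj n (y + w)) =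
        a (n + 1) z + -(EpsLib.cechD (EpsLib.nerveOf π) (EtCoh.Gm X).obj n t) := by
      rw [map_add, ← sub_sub, ← hz, map_sub, EpsLib.cechD_natural _ ι.hom, hw, sub_eq_add_neg]
    rw [hval]
    have h' := hfin.2
    rw [hde, show b + -(b - e') = e' by abel] at h'
    have h'' := add_mem h' he'
    rwa [sub_add_cancel] at h''

end EtNilUnitLib

end
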