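import Groth.Agent.EtZarLib.Nat
import Groth.Agent.CohTopLib.Vanishing
import Mathlib.Topology.Sheaves.Forget

/-!
# Vanishing for Zariski sheaves with small sections
-/

set_option autoImplicit false
set_option linter.unusedSectionVars false
set_option linter.style.haveILetI false
set_option backward.isDefEq.respectTransparency false
set_option backward.isDefEq.respectTransparency.types false
set_option maxHeartbeats 800000
set_option synthInstance.maxHeartbeats 100000

universe u

open CategoryTheory CategoryTheory.Limits AlgebraicGeometry Opposite TopologicalSpace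
open Groth.Agent EtZarLib

noncomputable section

namespace EtNilUnitLib

variable {X : Scheme.{u}}

theorem exists_up_iso (G : EtZar.Ab X) (hs : ∀ U : X.Opens, Small.{u} (ToType (G.obj.obj (op U)))) :
    ∃ M : CohTop.Ab X.toTopCat, Nonempty ((up X).obj M ≅ G) := by
  haveI : ∀ U : X.Opensᵒᵖ, Small.{u} (ToType (G.obj.obj U)) := fun U => hs U.unop
  let e := fun U : X.Opensᵒᵖ => (Shrink.addEquiv (α := ToType (G.obj.obj U)))
  let P : X.Opensᵒᵖ ⥤ AddCommGrpCat.{u} :=
    { obj := fun U => AddCommGrpCat.of (Shrink.{u} (ToType (G.obj.obj U)))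
      map := fun {U V} g => AddCommGrpCat.ofHom
        ((e V).symm.toAddMonoidHom.comp ((G.obj.map g).hom.comp (e U).toAddMonoidHom))
      map_id := fun U => by
        refine ConcreteCategory.hom_ext _ _ fun x => ?_
        show (e U).symm (G.obj.map (𝟙 U) (e U x)) = x
        rw [G.obj.map_id]
        exact (e U).symm_apply_apply x
      map_comp := fun {U V W} f g => by
        refine ConcreteCategory.hom_ext _ _ fun x => ?_
        show (e W).symm (G.obj.map (f ≫ g) (e U x)) = (e W).symm (G.obj.map g (e V ((e V).symm (G.obj.map f (e U x)))))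
        rw [AddEquiv.apply_symm_apply, G.obj.map_comp]
        rfl }
  have hP : Presheaf.IsSheaf (Opens.grothendieckTopology X) P := by
    refine (TopCat.Presheaf.isSheaf_iff_isSheaf_comp (forget AddCommGrpCat.{u}) P).2 ?_
    refine (isSheaf_iff_isSheaf_of_type _ _).2 ?_
    refine (Presieve.isSheaf_iff_of_nat_equiv (P₂ := P ⋙ forget AddCommGrpCat.{u}) (fun U => (e (op U)).toEquiv.symm) ?_).1
      ((isSheaf_iff_isSheaf_of_type (Opens.grothendieckTopology X) (G.obj ⋙ forget AddCommGrpCat.{u + 1})).1
        (GrothendieckTopology.HasSheafCompose.isSheaf (F := forget AddCommGrpCat.{u + 1}) G.obj G.property))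
    intro U V f x
    show (e (op U)).symm (G.obj.map f.op x) = (e (op U)).symm (G.obj.map f.op (e (op V) ((e (op V)).symm x)))
    rw [AddEquiv.apply_symm_apply]
  refine ⟨⟨P, hP⟩, ⟨(sheafToPresheaf _ _).preimageIso (NatIso.ofComponents
    (fun U => (AddEquiv.ulift.trans (e U)).toAddCommGrpIso) fun {U V} f => ?_)⟩⟩
  ext x
  exact (e V).apply_symm_apply _

theorem subsingleton_H_of_small [EtZar.ZarCont X] [TopologicalSpace.NoetherianSpace X] (d : ℕ)
    (hd : topologicalKrullDim X ≤ d) (G : EtZar.Ab X) (hs : ∀ U : X.Opens, Small.{u} (ToType (G.obj.obj (op U))))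
    (p : ℕ) (hp : d < p) : Subsingleton (EtZar.H G p) := by
  obtain ⟨M, ⟨i⟩⟩ := exists_up_iso G hs
  obtain ⟨e⟩ := nonempty_up_equiv p M
  haveI : Subsingleton (CohTop.H M p) := CohTopLib.subsingleton_H_of_dim_le d hd M p hp
  haveI : Subsingleton (EtZar.H ((up X).obj M) p) := e.symm.toEquiv.subsingleton
  refine ⟨fun a b => ?_⟩
  have h : ∀ c : EtZar.H G p, c = Sheaf.H.map i.hom p (Sheaf.H.map i.inv p c) := fun c => by
    rw [← Sheaf.H.map_comp_apply, i.inv_hom_id]
    exact (Sheaf.H.map_id_apply c).symm
  rw [h a, h b, Subsingleton.elim (α := EtZar.H ((up X).obj M) p) (Sheaf.H.map i.inv p a) (Sheaf.H.map i.inv p b)]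

end EtNilUnitLib

end
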