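import Groth.Agent.EtZarLib.Assoc
import Groth.Agent.AlgSpLib.ReducedSmooth
import Mathlib.AlgebraicGeometry.Morphisms.Flat
import Mathlib.RingTheory.TensorProduct.Quotient

/-!
# Powers of the nilradical on the étale site
-/

set_option autoImplicit false
set_option linter.unusedSectionVars false
set_option linter.style.haveILetI false
set_option backward.isDefEq.respectTransparency false
set_option backward.isDefEq.respectTransparency.types false
set_option maxHeartbeats 800000
set_option synthInstance.maxHeartbeats 100000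

universe u

open CategoryTheory CategoryTheory.Limits AlgebraicGeometry Opposite TensorProduct
open Groth.Agent Groth.Agent.EtShLib Groth.Agent.EtShLib.GaAux

noncomputable section

namespace EtNilUnitLib

variable {X : Scheme.{u}}

/-- The powers of the nilradical. -/
abbrev nilP (U : X.Etale) (j : ℕ) : Ideal Γ(U.left, ⊤) := nilradical Γ(U.left, ⊤) ^ j

theorem res_mem_nilP {U U' : X.Etale} (g : U' ⟶ U) {j : ℕ} {a : Γ(U.left, ⊤)} (h : a ∈ nilP U j) :
    res g a ∈ nilP U' j := by
  have h1 : (nilradical Γ(U.left, ⊤)).map (res g) ≤ nilradical Γ(U'.left, ⊤) :=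
    Ideal.map_le_iff_le_comap.2 fun x hx => mem_nilradical.2 ((mem_nilradical.1 hx).map (res g))
  have h2 := Ideal.mem_map_of_mem (res g) h
  rw [Ideal.map_pow] at h2
  exact Ideal.pow_right_mono h1 j h2

theorem nilradical_map_eq {U U' : X.Etale} [IsAffine U.left] [IsAffine U'.left] (g : U' ⟶ U) :
    (nilradical Γ(U.left, ⊤)).map (res g) = nilradical Γ(U'.left, ⊤) := by
  refine le_antisymm (Ideal.map_le_iff_le_comap.2 fun x hx => mem_nilradical.2 ((mem_nilradical.1 hx).map (res g))) ?_
  haveI := etale_left g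
  have hE : (res g).Etale := HasRingHomProperty.appTop @AlgebraicGeometry.Etale g.left inferInstance
  letI : Algebra Γ(U.left, ⊤) Γ(U'.left, ⊤) := (res g).toAlgebra
  haveI : Algebra.Etale Γ(U.left, ⊤) Γ(U'.left, ⊤) := hE
  let I := nilradical Γ(U.left, ⊤)
  haveI : _root_.IsReduced (Γ(U.left, ⊤) ⧸ I) :=
    (Ideal.isRadical_iff_quotient_reduced _).1 (Ideal.radical_isRadical _)
  haveI : _root_.IsReduced ((Γ(U.left, ⊤) ⧸ I) ⊗[Γ(U.left, ⊤)] Γ(U'.left, ⊤)) :=
    AlgSpLib.isReduced_of_etale (Γ(U.left, ⊤) ⧸ I) _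
  haveI : _root_.IsReduced (Γ(U'.left, ⊤) ⊗[Γ(U.left, ⊤)] (Γ(U.left, ⊤) ⧸ I)) :=
    isReduced_of_injective (Algebra.TensorProduct.comm Γ(U.left, ⊤) Γ(U'.left, ⊤) (Γ(U.left, ⊤) ⧸ I))
      (AlgEquiv.injective _)
  haveI : _root_.IsReduced (Γ(U'.left, ⊤) ⧸ I.map (res g)) :=
    isReduced_of_injective (Algebra.TensorProduct.quotIdealMapEquivTensorQuot Γ(U'.left, ⊤) I) (AlgEquiv.injective _)
  exact fun x hx => (Ideal.isRadical_iff_quotient_reduced (I.map (res g))).2 ‹_›
    ((Ideal.radical_mono bot_le : nilradical Γ(U'.left, ⊤) ≤ _) hx)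

variable (X) in
/-- The powers of the nilradical as modules. -/
def nilMods (j : ℕ) : EtZarLib.Mods X where
  A U := ↥(nilP U j)
  r g := AddMonoidHom.mk' (fun a => ⟨res g a.1, res_mem_nilP g a.2⟩) fun a b => Subtype.ext (map_add _ _ _)
  r_smul g a m := Subtype.ext (map_mul (res g) a m.1)
  r_r g h m := Subtype.ext (res_comp h g m.1)
  r_id m := Subtype.ext (res_id m.1)
  isBC := by
    intro U U' _ _ g _ _ _ hg ψ hψ
    haveI := etale_left g
    have hF : (res g).Flat := HasRingHomProperty.appTop @AlgebraicGeometry.Flat g.left inferInstance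
    haveI : Module.Flat Γ(U.left, ⊤) Γ(U'.left, ⊤) := by
      have he : algebraMap Γ(U.left, ⊤) Γ(U'.left, ⊤) = res g := RingHom.ext hg
      rw [← RingHom.flat_algebraMap_iff, he]
      exact hF
    let φ := ψ.liftBaseChange Γ(U'.left, ⊤)
    have hval : ∀ z, (φ z).1 = AlgebraTensorModule.rid Γ(U.left, ⊤) Γ(U'.left, ⊤) Γ(U'.left, ⊤)
        ((nilP U j).subtype.lTensor Γ(U'.left, ⊤) z) := fun z => by
      induction z using TensorProduct.induction_on with
      | zero => simp only [map_zero]; rfl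
      | add z₁ z₂ h₁ h₂ => simp only [map_add, ← h₁, ← h₂]; rfl
      | tmul b a =>
        rw [LinearMap.liftBaseChange_tmul, LinearMap.lTensor_tmul, AlgebraTensorModule.rid_tmul, Algebra.smul_def, hg]
        show b * (ψ a).1 = res g a.1 * b
        rw [show (ψ a).1 = res g a.1 from congrArg Subtype.val (hψ a), mul_comm]
    have hinj : Function.Injective φ := fun a b hab =>
      Module.Flat.lTensor_preserves_injective_linearMap _ (nilP U j).injective_subtype
        ((AlgebraTensorModule.rid Γ(U.left, ⊤) Γ(U'.left, ⊤) Γ(U'.left, ⊤)).injective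
          (by rw [← hval, ← hval, hab]))
    have hsurj : Function.Surjective φ := by
      rintro ⟨y, hy⟩
      have hy' : y ∈ (nilP U j).map (res g) := by
        rwa [Ideal.map_pow, nilradical_map_eq]
      suffices h : ∀ y ∈ (nilP U j).map (res g), ∃ z, (φ z).1 = y by
        obtain ⟨z, hz⟩ := h y hy'
        exact ⟨z, Subtype.ext hz⟩
      intro y hy
      induction hy using Submodule.span_induction with
      | mem y h =>
        obtain ⟨a, ha, rfl⟩ := h
        exact ⟨1 ⊗ₜ ⟨a, ha⟩, by rw [LinearMap.liftBaseChange_one_tmul]; exact congrArg Subtype.val (hψ _)⟩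
      | zero => exact ⟨0, by rw [map_zero]; rfl⟩
      | add a b _ _ ha hb =>
        obtain ⟨za, rfl⟩ := ha; obtain ⟨zb, rfl⟩ := hb
        exact ⟨za + zb, by rw [map_add]; rfl⟩
      | smul c a _ ha =>
        obtain ⟨za, rfl⟩ := ha
        exact ⟨c • za, by rw [map_smul]; rfl⟩
    exact IsBaseChange.of_equiv (LinearEquiv.ofBijective φ ⟨hinj, hsurj⟩) fun x =>
      show φ (1 ⊗ₜ x) = ψ x from LinearMap.liftBaseChange_one_tmul (A := Γ(U'.left, ⊤)) ψ x

end EtNilUnitLib

end
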